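import Groth.Prelude.Def_Hensel
import Groth.Agent.Hens.CoeffField
import Mathlib.RingTheory.NoetherNormalization
import Mathlib.RingTheory.TensorProduct.Basic
import Mathlib.FieldTheory.IsSepClosed
import Mathlib.FieldTheory.SeparableClosure

/-!
# A strict henselization of a finite type algebra over a field is one at a closed point

If `p` is a prime of a finite type `k`-algebra `B` and `A` is a strict henselization of `B_p`, then a
separably closed field `k'` (a separable closure of a purely transcendental subfield `K` of `B_p` over which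
`κ(p)` is finite) makes `A` the strict henselization of `k' ⊗_{k[t]} B` at a maximal ideal.
-/

set_option autoImplicit false
set_option linter.style.haveILetI false
universe u

open IsLocalRing
open scoped TensorProduct

namespace Groth.Agent.SHClosed93

/-- Lifts of a separable extension to a local ring are unique. -/
theorem ringHom_eq_of_residue {K E T : Type u} [Field K] [Field E] [Algebra K E] [Algebra.IsSeparable K E]
    [CommRing T] [IsLocalRing T] {φ ψ : E →+* T} (h : φ.comp (algebraMap K E) = ψ.comp (algebraMap K E))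
    (hr : ∀ a, residue T (φ a) = residue T (ψ a)) : φ = ψ := by
  refine RingHom.ext fun a => ?_
  set P := minpoly K a with hP
  have hsep : P.Separable := Algebra.IsSeparable.isSeparable K a
  set Q := P.map (φ.comp (algebraMap K E)) with hQ
  have h0 : Polynomial.eval₂ (algebraMap K E) a P = 0 := minpoly.aeval K a
  have hx : Q.eval (φ a) = 0 := by
    rw [hQ, Polynomial.eval_map, ← Polynomial.hom_eval₂, h0, map_zero]
  have hy : Q.eval (ψ a) = 0 := by
    rw [hQ, h, Polynomial.eval_map, ← Polynomial.hom_eval₂, h0, map_zero]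
  have hd : IsUnit (Q.derivative.eval (φ a)) := by
    rw [hQ, Polynomial.derivative_map, Polynomial.eval_map, ← Polynomial.hom_eval₂]
    exact (IsUnit.mk0 _ (hsep.aeval_derivative_ne_zero (minpoly.aeval K a))).map φ
  obtain ⟨c, hc⟩ := Polynomial.binomExpansion Q (φ a) (ψ a - φ a)
  rw [add_sub_cancel, hy, hx, zero_add] at hc
  have hu : IsUnit (Q.derivative.eval (φ a) + c * (ψ a - φ a)) := by
    rw [← residue_ne_zero_iff_isUnit, map_add, map_mul, map_sub, hr, sub_self, mul_zero, add_zero]
    exact (residue_ne_zero_iff_isUnit _).2 hd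
  have h1 : (Q.derivative.eval (φ a) + c * (ψ a - φ a)) * (ψ a - φ a) = 0 := by
    rw [add_mul, mul_assoc, ← sq]; exact hc.symm
  exact (sub_eq_zero.1 (hu.mul_right_eq_zero.1 h1)).symm

/-- The closed-point model of a strict henselization. -/
theorem exists_closedPoint {k B R A : Type u} [Field k] [CommRing B] [Algebra k B] [Algebra.FiniteType k B]
    (p : Ideal B) [p.IsPrime] [CommRing R] [IsLocalRing R] [Algebra B R] [IsLocalization.AtPrime R p]
    [CommRing A] [IsLocalRing A] [Algebra R A] [IsLocalHom (algebraMap R A)]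
    [hS : Hensel.IsStrictHenselization R A] :
    ∃ (k' : Type u) (_ : Field k') (_ : IsSepClosed k') (C : Type u) (_ : CommRing C) (_ : Algebra k' C)
      (_ : Algebra.FiniteType k' C) (q : Ideal C) (_ : q.IsMaximal) (ψ : C →+* A),
      q = (maximalIdeal A).comap ψ ∧
      ∀ (R' : Type u) [CommRing R'] [IsLocalRing R'] [Algebra C R'] [IsLocalization.AtPrime R' q]
        [Algebra R' A] [IsLocalHom (algebraMap R' A)],
        (algebraMap R' A).comp (algebraMap C R') = ψ → Hensel.IsStrictHenselization R' A := by
  classical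
  haveI := hS.henselian
  let β : B →+* A := (algebraMap R A).comp (algebraMap B R)
  have hβ : ∀ b, IsUnit (β b) ↔ b ∉ p := fun b => by
    refine Iff.trans ?_ (IsLocalization.AtPrime.isUnit_to_map_iff R p b)
    exact ⟨fun h => isUnit_of_map_unit (algebraMap R A) _ h, fun h => h.map (algebraMap R A)⟩
  haveI : Nontrivial (B ⧸ p) := Ideal.Quotient.nontrivial_iff.2 (Ideal.IsPrime.ne_top ‹_›)
  obtain ⟨d, g, hginj, hgfin⟩ := exists_finite_inj_algHom_of_fg k (B ⧸ p)
  choose a ha using fun i => Ideal.Quotient.mk_surjective (g (MvPolynomial.X i))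
  let P := MvPolynomial (Fin d) k
  let lft : P →ₐ[k] B := MvPolynomial.aeval a
  have hlft : ∀ z, Ideal.Quotient.mk p (lft z) = g z := fun z => by
    refine AlgHom.congr_fun (φ₁ := (Ideal.Quotient.mkₐ k p).comp lft) (MvPolynomial.algHom_ext fun i => ?_) z
    simp only [lft, AlgHom.comp_apply, MvPolynomial.aeval_X]
    exact ha i
  letI : Algebra P B := lft.toRingHom.toAlgebra
  haveI : IsScalarTower k P B := .of_algebraMap_eq' lft.comp_algebraMap.symm
  haveI : Algebra.FiniteType P B := Algebra.FiniteType.of_restrictScalars_finiteType k P B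
  let π : P →+* A := β.comp (algebraMap P B)
  have hπ : ∀ y : nonZeroDivisors P, IsUnit (π y) := fun y => (hβ _).2 fun h => by
    refine nonZeroDivisors.coe_ne_zero y (hginj ?_)
    rw [map_zero, ← hlft]
    exact Ideal.Quotient.eq_zero_iff_mem.2 h
  let K := FractionRing P
  let κ : K →+* A := IsLocalization.lift hπ
  obtain ⟨k', _, _, _, _⟩ : ∃ (L : Type u) (_ : Field L) (_ : Algebra K L) (_ : IsSepClosed L),
      Algebra.IsSeparable K L :=
    ⟨SeparableClosure K, inferInstance, inferInstance, inferInstance, inferInstance⟩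
  letI : Algebra K (ResidueField A) := ((residue A).comp κ).toAlgebra
  haveI : IsSepClosed (ResidueField A) := hS.isSepClosure.sep_closed
  obtain ⟨ι, hι, hικ⟩ : ∃ ι : k' →+* A, (∀ e, residue A (ι e) =
      (IsSepClosed.lift : k' →ₐ[K] ResidueField A) e) ∧ ι.comp (algebraMap K k') = κ :=
    Hens.CoeffField.exists_lift_separable' κ _ fun f =>
      AlgHom.commutes (IsSepClosed.lift : k' →ₐ[K] ResidueField A) f
  letI : Algebra P k' := ((algebraMap K k').comp (algebraMap P K)).toAlgebra
  have hPK : algebraMap P k' = (algebraMap K k').comp (algebraMap P K) := rfl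
  letI : Algebra P A := π.toAlgebra
  have hιA : ∀ z, ι (algebraMap P k' z) = algebraMap P A z := fun z => by
    rw [hPK]
    exact (RingHom.congr_fun hικ (algebraMap P K z)).trans (IsLocalization.lift_eq hπ z)
  let ιA : k' →ₐ[P] A := { ι with commutes' := hιA }
  let βA : B →ₐ[P] A := { β with commutes' := fun z => rfl }
  let ψ : k' ⊗[P] B →ₐ[P] A := Algebra.TensorProduct.lift ιA βA fun _ _ => Commute.all _ _
  let q : Ideal (k' ⊗[P] B) := (maximalIdeal A).comap ψ.toRingHom
  haveI hq : q.IsPrime := Ideal.comap_isPrime _ _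
  have hl : ∀ e : k', ψ (algebraMap k' (k' ⊗[P] B) e) = ι e := fun e => by
    show ψ (e ⊗ₜ (1 : B)) = _
    rw [Algebra.TensorProduct.lift_tmul, map_one, mul_one]; rfl
  have hrt : ∀ b : B, ψ (Algebra.TensorProduct.includeRight b) = β b := fun b => by
    show ψ ((1 : k') ⊗ₜ b) = _
    rw [Algebra.TensorProduct.lift_tmul, map_one, one_mul]; rfl
  haveI hmax : q.IsMaximal := by
    haveI : IsDomain ((k' ⊗[P] B) ⧸ q) := Ideal.Quotient.isDomain q
    have hint : Algebra.IsIntegral k' ((k' ⊗[P] B) ⧸ q) := ⟨fun z => by
      obtain ⟨z, rfl⟩ := Ideal.Quotient.mk_surjective z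
      induction z using TensorProduct.induction_on with
      | zero => rw [map_zero]; exact isIntegral_zero
      | add x y hx hy => rw [map_add]; exact hx.add hy
      | tmul e b =>
        rw [show e ⊗ₜ[P] b = algebraMap k' (k' ⊗[P] B) e * Algebra.TensorProduct.includeRight b by
          rw [Algebra.TensorProduct.algebraMap_apply, Algebra.TensorProduct.includeRight_apply,
            Algebra.TensorProduct.tmul_mul_tmul, Algebra.algebraMap_self, RingHom.id_apply, mul_one, one_mul],
          map_mul]
        refine IsIntegral.mul (isIntegral_algebraMap) ?_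
        obtain ⟨f, hfm, hf0⟩ := RingHom.Finite.to_isIntegral hgfin (Ideal.Quotient.mk p b)
        refine ⟨f.map (algebraMap P k'), hfm.map _, ?_⟩
        rw [Polynomial.eval₂_map]
        let χ : B →+* (k' ⊗[P] B) ⧸ q :=
          (Ideal.Quotient.mk q).comp Algebra.TensorProduct.includeRight.toRingHom
        have hχ : ∀ c ∈ p, χ c = 0 := fun c hc => by
          refine Ideal.Quotient.eq_zero_iff_mem.2 ?_
          show ψ (Algebra.TensorProduct.includeRight c) ∈ maximalIdeal A
          rw [hrt, mem_maximalIdeal]
          exact fun h => (hβ c).1 h hc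
        have := congrArg (Ideal.Quotient.lift p χ hχ) hf0
        rw [map_zero, Polynomial.hom_eval₂] at this
        have hc : (algebraMap k' ((k' ⊗[P] B) ⧸ q)).comp (algebraMap P k') =
            (Ideal.Quotient.lift p χ hχ).comp g.toRingHom := RingHom.ext fun z => by
          show Ideal.Quotient.mk q (algebraMap k' _ (algebraMap P k' z)) = Ideal.Quotient.lift p χ hχ (g z)
          rw [← hlft, Ideal.Quotient.lift_mk]
          show Ideal.Quotient.mk q _ = Ideal.Quotient.mk q (Algebra.TensorProduct.includeRight (algebraMap P B z))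
          rw [AlgHom.commutes, ← IsScalarTower.algebraMap_apply]
        exact (congrArg (fun φ => Polynomial.eval₂ φ _ f) hc).trans this⟩
    exact Ideal.Quotient.maximal_of_isField q (isField_of_isIntegral_of_isField' (Field.toIsField k'))
  refine ⟨k', inferInstance, inferInstance, k' ⊗[P] B, inferInstance, inferInstance, inferInstance, q, hmax,
    ψ.toRingHom, rfl, fun R' _ _ _ _ _ _ hcomp => ?_⟩
  let C := k' ⊗[P] B
  let ρB : B →+* R' := (algebraMap C R').comp Algebra.TensorProduct.includeRight.toRingHom
  have hρu : ∀ y : p.primeCompl, IsUnit (ρB y) := fun y => by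
    refine (IsLocalization.AtPrime.isUnit_to_map_iff R' q _).2 ?_
    show ψ (Algebra.TensorProduct.includeRight (y : B)) ∉ maximalIdeal A
    rw [hrt, mem_maximalIdeal, mem_nonunits_iff, not_not]
    exact (hβ _).2 y.2
  let ρ : R →+* R' := IsLocalization.lift hρu
  have hρ : (algebraMap R' A).comp ρ = algebraMap R A := by
    refine IsLocalization.ringHom_ext p.primeCompl (RingHom.ext fun b => ?_)
    show algebraMap R' A (ρ (algebraMap B R b)) = _
    rw [IsLocalization.lift_eq]
    exact (RingHom.congr_fun hcomp _).trans (hrt b)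
  haveI : IsLocalHom ρ := ⟨fun r hr => isUnit_of_map_unit (algebraMap R A) r
    (by rw [← hρ]; exact hr.map (algebraMap R' A))⟩
  refine ⟨inferInstance, ⟨hS.isSepClosure.sep_closed, ?_⟩, fun T _ _ f _ τ hτ => ?_⟩
  · letI : Algebra (ResidueField R) (ResidueField R') := (ResidueField.map ρ).toAlgebra
    haveI : IsScalarTower (ResidueField R) (ResidueField R') (ResidueField A) :=
      .of_algebraMap_eq fun z => by
        obtain ⟨r, rfl⟩ := residue_surjective z
        exact congrArg (residue A) (RingHom.congr_fun hρ r).symm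
    haveI := hS.isSepClosure.separable
    exact Algebra.isSeparable_tower_top_of_isSeparable (ResidueField R) (ResidueField R') (ResidueField A)
  · obtain ⟨h, ⟨hh, hhr⟩, huniq⟩ := hS.universal T (f.comp ρ) τ (RingHom.ext fun z => by
      obtain ⟨r, rfl⟩ := residue_surjective z
      refine Eq.trans (congrArg τ (congrArg (residue A) (RingHom.congr_fun hρ r).symm)) ?_
      exact RingHom.congr_fun hτ (residue R' (ρ r)))
    have hres : ∀ r', residue T (h (algebraMap R' A r')) = residue T (f r') := fun r' =>
      (hhr _).trans (RingHom.congr_fun hτ (residue R' r'))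
    have key : h.comp (algebraMap R' A) = f := by
      refine IsLocalization.ringHom_ext q.primeCompl (Algebra.TensorProduct.ringHom_ext
        ?_ (RingHom.ext fun b => ?_))
      · refine ringHom_eq_of_residue (K := K) ?_ fun e => hres _
        refine IsLocalization.ringHom_ext (nonZeroDivisors P) (RingHom.ext fun z => ?_)
        have e1 : (algebraMap K k' (algebraMap P K z)) ⊗ₜ[P] (1 : B) =
            (1 : k') ⊗ₜ[P] algebraMap P B z := by
          rw [show algebraMap K k' (algebraMap P K z) = z • (1 : k') from
            (Algebra.algebraMap_eq_smul_one (A := k') z), TensorProduct.smul_tmul,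
            ← Algebra.algebraMap_eq_smul_one]
        show h (algebraMap R' A (algebraMap C R' ((algebraMap K k' (algebraMap P K z)) ⊗ₜ[P] (1 : B)))) =
          f (algebraMap C R' ((algebraMap K k' (algebraMap P K z)) ⊗ₜ[P] (1 : B)))
        rw [e1]
        have e2 : ρ (algebraMap B R (algebraMap P B z)) = algebraMap C R' ((1 : k') ⊗ₜ[P] algebraMap P B z) :=
          IsLocalization.lift_eq _ _
        rw [← e2]
        exact (congrArg h (RingHom.congr_fun hρ _)).trans (RingHom.congr_fun hh _)
      · have e2 : ρ (algebraMap B R b) = algebraMap C R' ((1 : k') ⊗ₜ[P] b) := IsLocalization.lift_eq _ _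
        show h (algebraMap R' A (algebraMap C R' ((1 : k') ⊗ₜ[P] b))) = f (algebraMap C R' ((1 : k') ⊗ₜ[P] b))
        rw [← e2]
        exact (congrArg h (RingHom.congr_fun hρ _)).trans (RingHom.congr_fun hh _)
    refine ⟨h, ⟨key, hhr⟩, fun h' ⟨hh', hhr'⟩ => huniq h' ⟨?_, hhr'⟩⟩
    rw [← hρ, ← RingHom.comp_assoc, hh']

end Groth.Agent.SHClosed93
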