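import Groth.Prelude.Def_Hensel
import Groth.Agent.Hens.Unique
import Groth.Agent.EtRamLib.SHDVR
import Groth.Agent.StrictHens.SchemeBC
import Mathlib.RingTheory.NoetherNormalization
import Mathlib.RingTheory.TensorProduct.Basic
import Mathlib.RingTheory.Polynomial.Basic
import Mathlib.RingTheory.DiscreteValuationRing.TFAE

/-!
# Strict henselizations of finite type algebras over a DVR, at a closed point of the special fibre
-/

set_option autoImplicit false
set_option linter.style.haveILetI false
universe u

open IsLocalRing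
open scoped TensorProduct

namespace Groth.Agent.SHClosed93

/-- The localization of `R[X₁,…,X_d]` at the special fibre is a discrete valuation ring. -/
theorem isDVR_localization_special {R : Type u} [CommRing R] [IsDomain R] [IsDiscreteValuationRing R] (d : ℕ)
    (P0 : Ideal (MvPolynomial (Fin d) R)) [P0.IsPrime] (h : P0 = (maximalIdeal R).map MvPolynomial.C) :
    IsDiscreteValuationRing (Localization.AtPrime P0) := by
  obtain ⟨ϖ, hϖ⟩ := IsDiscreteValuationRing.exists_irreducible R
  let L := Localization.AtPrime P0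
  have hm : maximalIdeal L = Ideal.span {algebraMap (MvPolynomial (Fin d) R) L (MvPolynomial.C ϖ)} := by
    rw [← Localization.AtPrime.map_eq_maximalIdeal]
    refine (congrArg (Ideal.map (algebraMap (MvPolynomial (Fin d) R) L)) h).trans ?_
    rw [hϖ.maximalIdeal_eq, Ideal.map_span, Set.image_singleton, Ideal.map_span, Set.image_singleton]
  haveI : IsDomain L :=
    IsLocalization.isDomain_localization P0.primeCompl_le_nonZeroDivisors
  haveI : IsNoetherianRing L := IsLocalization.isNoetherianRing P0.primeCompl L inferInstance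
  haveI : IsPrincipalIdealRing L :=
    ((tfae_of_isNoetherianRing_of_isLocalRing_of_isDomain L).out 4 0).mp (show (maximalIdeal L).IsPrincipal from ⟨⟨_, hm⟩⟩)
  refine { not_a_field' := fun h0 => ?_ }
  rw [hm, Ideal.span_singleton_eq_bot] at h0
  refine hϖ.ne_zero (MvPolynomial.C_injective (Fin d) R ?_)
  rw [map_zero]
  exact IsLocalization.injective L P0.primeCompl_le_nonZeroDivisors (by rw [h0, map_zero])

/-- The closed-point model over a strictly henselian DVR. -/
theorem exists_closedPoint_dvr {R B Rp A : Type u} [CommRing R] [IsDomain R] [IsDiscreteValuationRing R]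
    [CommRing B] [Algebra R B] [Algebra.FiniteType R B]
    (p : Ideal B) [p.IsPrime] (hpm : ∀ r ∈ maximalIdeal R, algebraMap R B r ∈ p)
    [CommRing Rp] [IsLocalRing Rp] [Algebra B Rp] [IsLocalization.AtPrime Rp p]
    [CommRing A] [IsLocalRing A] [Algebra Rp A] [IsLocalHom (algebraMap Rp A)]
    [hS : Hensel.IsStrictHenselization Rp A] :
    ∃ (R' : Type u) (_ : CommRing R') (_ : IsDomain R') (_ : IsDiscreteValuationRing R') (_ : HenselianLocalRing R')
      (_ : IsSepClosed (ResidueField R')) (C : Type u) (_ : CommRing C) (_ : Algebra R' C)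
      (_ : Algebra.FiniteType R' C) (q : Ideal C) (_ : q.IsMaximal) (ψ : C →+* A),
      q = (maximalIdeal A).comap ψ ∧ q.comap (algebraMap R' C) = maximalIdeal R' ∧
      ∀ (O : Type u) [CommRing O] [IsLocalRing O] [Algebra C O] [IsLocalization.AtPrime O q]
        [Algebra O A] [IsLocalHom (algebraMap O A)],
        (algebraMap O A).comp (algebraMap C O) = ψ → Hensel.IsStrictHenselization O A := by
  classical
  haveI := hS.henselian
  haveI : IsSepClosed (ResidueField A) := hS.isSepClosure.sep_closed
  let β : B →+* A := (algebraMap Rp A).comp (algebraMap B Rp)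
  have hβ : ∀ b, IsUnit (β b) ↔ b ∉ p := fun b => by
    refine Iff.trans ?_ (IsLocalization.AtPrime.isUnit_to_map_iff Rp p b)
    exact ⟨fun h => isUnit_of_map_unit (algebraMap Rp A) _ h, fun h => h.map (algebraMap Rp A)⟩
  haveI : Nontrivial (B ⧸ p) := Ideal.Quotient.nontrivial_iff.2 (Ideal.IsPrime.ne_top ‹_›)
  letI : Algebra (ResidueField R) (B ⧸ p) :=
    (Ideal.Quotient.lift (maximalIdeal R) ((Ideal.Quotient.mk p).comp (algebraMap R B))
      fun r hr => Ideal.Quotient.eq_zero_iff_mem.2 (hpm r hr) : ResidueField R →+* B ⧸ p).toAlgebra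
  haveI : IsScalarTower R (ResidueField R) (B ⧸ p) := .of_algebraMap_eq fun _ => rfl
  haveI : Algebra.FiniteType R (B ⧸ p) :=
    Algebra.FiniteType.of_surjective (Ideal.Quotient.mkₐ R p) Ideal.Quotient.mk_surjective
  haveI : Algebra.FiniteType (ResidueField R) (B ⧸ p) :=
    Algebra.FiniteType.of_restrictScalars_finiteType R _ _
  obtain ⟨d, g, hginj, hgfin⟩ := exists_finite_inj_algHom_of_fg (ResidueField R) (B ⧸ p)
  choose a ha using fun i => Ideal.Quotient.mk_surjective (g (MvPolynomial.X i))
  let P := MvPolynomial (Fin d) R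
  let lft : P →ₐ[R] B := MvPolynomial.aeval a
  let red : P →+* MvPolynomial (Fin d) (ResidueField R) := MvPolynomial.map (residue R)
  have hlft : ∀ z, Ideal.Quotient.mk p (lft z) = g (red z) := fun z => by
    refine RingHom.congr_fun (f := (Ideal.Quotient.mk p).comp lft.toRingHom) (g := g.toRingHom.comp red)
      (MvPolynomial.ringHom_ext (fun r => ?_) (fun i => ?_)) z
    · show Ideal.Quotient.mk p (lft (MvPolynomial.C r)) = g (red (MvPolynomial.C r))
      rw [MvPolynomial.map_C, MvPolynomial.aeval_C, ← MvPolynomial.algebraMap_eq, AlgHom.commutes]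
      rfl
    · show Ideal.Quotient.mk p (lft (MvPolynomial.X i)) = g (red (MvPolynomial.X i))
      rw [MvPolynomial.map_X, MvPolynomial.aeval_X]
      exact ha i
  letI : Algebra P B := lft.toRingHom.toAlgebra
  haveI : IsScalarTower R P B := .of_algebraMap_eq' lft.comp_algebraMap.symm
  haveI : Algebra.FiniteType P B := Algebra.FiniteType.of_restrictScalars_finiteType R P B
  let π : P →+* A := β.comp (algebraMap P B)
  let P0 : Ideal P := RingHom.ker red
  haveI : P0.IsPrime := RingHom.ker_isPrime red
  have hP0 : P0 = (maximalIdeal R).map MvPolynomial.C := by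
    show RingHom.ker (MvPolynomial.map (residue R)) = _
    rw [MvPolynomial.ker_map, IsLocalRing.ker_residue]
  let R1 := Localization.AtPrime P0
  haveI : IsDomain R1 := IsLocalization.isDomain_localization P0.primeCompl_le_nonZeroDivisors
  haveI : IsDiscreteValuationRing R1 := isDVR_localization_special d P0 hP0
  have hπ : ∀ y : P0.primeCompl, IsUnit (π y) := fun y => (hβ _).2 fun h => by
    refine y.2 (hginj ?_)
    rw [map_zero, ← hlft]
    exact Ideal.Quotient.eq_zero_iff_mem.2 h
  have hπ0 : ∀ z ∈ P0, ¬ IsUnit (π z) := fun z hz h => by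
    refine (hβ _).1 h (Ideal.Quotient.eq_zero_iff_mem.1 ?_)
    rw [show algebraMap P B z = lft z from rfl, hlft, show red z = 0 from hz, map_zero]
  let κ : R1 →+* A := IsLocalization.lift hπ
  haveI : IsLocalHom κ := ⟨fun r hr => by
    obtain ⟨c, y, rfl⟩ := IsLocalization.exists_mk'_eq P0.primeCompl r
    refine (IsLocalization.AtPrime.isUnit_mk'_iff R1 P0 c y).2 fun hc => hπ0 c hc ?_
    have h2 : κ (IsLocalization.mk' _ c y) * π y = π c := by
      show IsLocalization.lift hπ _ * _ = _
      rw [← IsLocalization.lift_eq (S := R1) hπ (y : P), ← map_mul, IsLocalization.mk'_spec, IsLocalization.lift_eq]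
    rw [← h2]
    exact hr.mul (hπ y)⟩
  let S := Hens.StrictHenselization R1
  haveI hS1 : _root_.Hensel.IsStrictHenselization R1 S := Hens.isStrictHenselization_strictHenselization
  obtain ⟨_, _⟩ := EtRamLib.SHDVR.isDVR (Hensel.isEtLike_of_isStrictHenselization R1 S)
  haveI : HenselianLocalRing S := hS1.henselian
  haveI : IsSepClosed (ResidueField S) := hS1.isSepClosure.sep_closed
  obtain ⟨ι, hιloc, hικ⟩ := StrictHens.SchemeBC.exists_hom (S := S) κ
  letI : Algebra P S := ((algebraMap R1 S).comp (algebraMap P R1)).toAlgebra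
  letI : Algebra P A := π.toAlgebra
  have hιA : ∀ z, ι (algebraMap P S z) = algebraMap P A z := fun z =>
    (RingHom.congr_fun hικ (algebraMap P R1 z)).trans (IsLocalization.lift_eq hπ z)
  let ιA : S →ₐ[P] A := { ι with commutes' := hιA }
  let βA : B →ₐ[P] A := { β with commutes' := fun z => rfl }
  let ψ : S ⊗[P] B →ₐ[P] A := Algebra.TensorProduct.lift ιA βA fun _ _ => Commute.all _ _
  let q : Ideal (S ⊗[P] B) := (maximalIdeal A).comap ψ.toRingHom
  haveI hq : q.IsPrime := Ideal.comap_isPrime _ _
  have hl : ∀ e : S, ψ (algebraMap S (S ⊗[P] B) e) = ι e := fun e => by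
    show ψ (e ⊗ₜ (1 : B)) = _
    rw [Algebra.TensorProduct.lift_tmul, map_one, mul_one]; rfl
  have hrt : ∀ b : B, ψ (Algebra.TensorProduct.includeRight b) = β b := fun b => by
    show ψ ((1 : S) ⊗ₜ b) = _
    rw [Algebra.TensorProduct.lift_tmul, map_one, one_mul]; rfl
  have hqS : q.comap (algebraMap S (S ⊗[P] B)) = maximalIdeal S := by
    ext e
    show ψ (algebraMap S (S ⊗[P] B) e) ∈ maximalIdeal A ↔ _
    rw [hl, mem_maximalIdeal, mem_maximalIdeal, mem_nonunits_iff, mem_nonunits_iff]
    exact ⟨fun h h' => h (h'.map ι), fun h h' => h (hιloc.map_nonunit e h')⟩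
  haveI hmax : q.IsMaximal := by
    haveI : IsDomain ((S ⊗[P] B) ⧸ q) := Ideal.Quotient.isDomain q
    have hint : Algebra.IsIntegral S ((S ⊗[P] B) ⧸ q) := ⟨fun z => by
      obtain ⟨z, rfl⟩ := Ideal.Quotient.mk_surjective z
      induction z using TensorProduct.induction_on with
      | zero => rw [map_zero]; exact isIntegral_zero
      | add x y hx hy => rw [map_add]; exact hx.add hy
      | tmul e b =>
        rw [show e ⊗ₜ[P] b = algebraMap S (S ⊗[P] B) e * Algebra.TensorProduct.includeRight b by
          rw [Algebra.TensorProduct.algebraMap_apply, Algebra.TensorProduct.includeRight_apply,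
            Algebra.TensorProduct.tmul_mul_tmul, Algebra.algebraMap_self, RingHom.id_apply, mul_one, one_mul],
          map_mul]
        refine IsIntegral.mul (isIntegral_algebraMap) ?_
        have hred : Function.Surjective red := MvPolynomial.map_surjective _ residue_surjective
        obtain ⟨f, hfm, hf0⟩ := RingHom.IsIntegral.trans _ _ (RingHom.isIntegral_of_surjective red hred)
          (RingHom.Finite.to_isIntegral hgfin) (Ideal.Quotient.mk p b)
        refine ⟨f.map (algebraMap P S), hfm.map _, ?_⟩
        rw [Polynomial.eval₂_map]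
        let χ : B →+* (S ⊗[P] B) ⧸ q :=
          (Ideal.Quotient.mk q).comp Algebra.TensorProduct.includeRight.toRingHom
        have hχ : ∀ c ∈ p, χ c = 0 := fun c hc => by
          refine Ideal.Quotient.eq_zero_iff_mem.2 ?_
          show ψ (Algebra.TensorProduct.includeRight c) ∈ maximalIdeal A
          rw [hrt, mem_maximalIdeal]
          exact fun h => (hβ c).1 h hc
        have := congrArg (Ideal.Quotient.lift p χ hχ) hf0
        rw [map_zero, Polynomial.hom_eval₂] at this
        have hc : (algebraMap S ((S ⊗[P] B) ⧸ q)).comp (algebraMap P S) =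
            (Ideal.Quotient.lift p χ hχ).comp (g.toRingHom.comp red) := RingHom.ext fun z => by
          show Ideal.Quotient.mk q (algebraMap S _ (algebraMap P S z)) = Ideal.Quotient.lift p χ hχ (g (red z))
          rw [← hlft, Ideal.Quotient.lift_mk]
          show Ideal.Quotient.mk q _ = Ideal.Quotient.mk q (Algebra.TensorProduct.includeRight (algebraMap P B z))
          rw [AlgHom.commutes, ← IsScalarTower.algebraMap_apply]
        exact (congrArg (fun φ => Polynomial.eval₂ φ _ f) hc).trans this⟩
    haveI : (⊥ : Ideal ((S ⊗[P] B) ⧸ q)).IsMaximal :=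
      Ideal.isMaximal_of_isIntegral_of_isMaximal_comap (R := S) ⊥ (by
        rw [show (⊥ : Ideal ((S ⊗[P] B) ⧸ q)).comap (algebraMap S _) = q.comap (algebraMap S (S ⊗[P] B)) from
          Ideal.ext fun e => Ideal.Quotient.eq_zero_iff_mem, hqS]
        exact maximalIdeal.isMaximal S)
    rw [show q = (⊥ : Ideal ((S ⊗[P] B) ⧸ q)).comap (Ideal.Quotient.mk q) from Ideal.mk_ker.symm]
    exact Ideal.comap_isMaximal_of_surjective _ Ideal.Quotient.mk_surjective
  refine ⟨S, inferInstance, inferInstance, inferInstance, inferInstance, inferInstance, S ⊗[P] B, inferInstance,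
    inferInstance, inferInstance, q, hmax, ψ.toRingHom, rfl, hqS, fun O _ _ _ _ _ _ hcomp => ?_⟩
  let C := S ⊗[P] B
  let ρB : B →+* O := (algebraMap C O).comp Algebra.TensorProduct.includeRight.toRingHom
  have hρu : ∀ y : p.primeCompl, IsUnit (ρB y) := fun y => by
    refine (IsLocalization.AtPrime.isUnit_to_map_iff O q _).2 ?_
    show ψ (Algebra.TensorProduct.includeRight (y : B)) ∉ maximalIdeal A
    rw [hrt, mem_maximalIdeal, mem_nonunits_iff, not_not]
    exact (hβ _).2 y.2
  let ρ : Rp →+* O := IsLocalization.lift hρu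
  have hρ : (algebraMap O A).comp ρ = algebraMap Rp A := by
    refine IsLocalization.ringHom_ext p.primeCompl (RingHom.ext fun b => ?_)
    show algebraMap O A (ρ (algebraMap B Rp b)) = _
    rw [IsLocalization.lift_eq]
    exact (RingHom.congr_fun hcomp _).trans (hrt b)
  haveI : IsLocalHom ρ := ⟨fun r hr => isUnit_of_map_unit (algebraMap Rp A) r
    (by rw [← hρ]; exact hr.map (algebraMap O A))⟩
  refine ⟨inferInstance, ⟨hS.isSepClosure.sep_closed, ?_⟩, fun T _ _ f _ τ hτ => ?_⟩
  · letI : Algebra (ResidueField Rp) (ResidueField O) := (ResidueField.map ρ).toAlgebra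
    haveI : IsScalarTower (ResidueField Rp) (ResidueField O) (ResidueField A) :=
      .of_algebraMap_eq fun z => by
        obtain ⟨r, rfl⟩ := residue_surjective z
        exact congrArg (residue A) (RingHom.congr_fun hρ r).symm
    haveI := hS.isSepClosure.separable
    exact Algebra.isSeparable_tower_top_of_isSeparable (ResidueField Rp) (ResidueField O) (ResidueField A)
  · obtain ⟨h, ⟨hh, hhr⟩, huniq⟩ := hS.universal T (f.comp ρ) τ (RingHom.ext fun z => by
      obtain ⟨r, rfl⟩ := residue_surjective z
      refine Eq.trans (congrArg τ (congrArg (residue A) (RingHom.congr_fun hρ r).symm)) ?_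
      exact RingHom.congr_fun hτ (residue O (ρ r)))
    haveI : IsLocalHom h := ⟨fun x hx => residue_ne_zero_iff_isUnit x |>.1 fun h0 =>
      (residue_ne_zero_iff_isUnit (h x)).2 hx (by rw [hhr, h0, map_zero])⟩
    have hres : ∀ r', residue T (h (algebraMap O A r')) = residue T (f r') := fun r' =>
      (hhr _).trans (RingHom.congr_fun hτ (residue O r'))
    have hagree : ∀ b : B, h (algebraMap O A (algebraMap C O ((1 : S) ⊗ₜ[P] b))) =
        f (algebraMap C O ((1 : S) ⊗ₜ[P] b)) := fun b => by
      have e2 : ρ (algebraMap B Rp b) = algebraMap C O ((1 : S) ⊗ₜ[P] b) := IsLocalization.lift_eq _ _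
      rw [← e2]
      exact (congrArg h (RingHom.congr_fun hρ _)).trans (RingHom.congr_fun hh _)
    have key : h.comp (algebraMap O A) = f := by
      refine IsLocalization.ringHom_ext q.primeCompl (Algebra.TensorProduct.ringHom_ext
        ?_ (RingHom.ext fun b => hagree b))
      haveI : IsLocalHom (((h.comp (algebraMap O A)).comp (algebraMap C O)).comp (algebraMap S C)) :=
        ⟨fun e he => hιloc.map_nonunit e (by
          rw [← hl]
          refine isUnit_of_map_unit h _ ?_
          exact (RingHom.congr_fun hcomp (algebraMap S C e)) ▸ he)⟩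
      refine (StrictHens.Basic.isSH_of_isStrictHenselization (A := R1) (S := S)).hom_ext (fun r => ?_)
        fun e => (hres _).symm
      refine RingHom.congr_fun (IsLocalization.ringHom_ext P0.primeCompl
        (j := ((((h.comp (algebraMap O A)).comp (algebraMap C O)).comp (algebraMap S C)).comp (algebraMap R1 S)))
        (k := (((f.comp (algebraMap C O)).comp (algebraMap S C)).comp (algebraMap R1 S)))
        (RingHom.ext fun z => ?_)) r
      have e1 : (algebraMap R1 S (algebraMap P R1 z)) ⊗ₜ[P] (1 : B) = (1 : S) ⊗ₜ[P] algebraMap P B z := by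
        rw [show algebraMap R1 S (algebraMap P R1 z) = z • (1 : S) from
          (Algebra.algebraMap_eq_smul_one (A := S) z), TensorProduct.smul_tmul,
          ← Algebra.algebraMap_eq_smul_one]
      show h (algebraMap O A (algebraMap C O ((algebraMap R1 S (algebraMap P R1 z)) ⊗ₜ[P] (1 : B)))) =
        f (algebraMap C O ((algebraMap R1 S (algebraMap P R1 z)) ⊗ₜ[P] (1 : B)))
      rw [e1]
      exact hagree _
    refine ⟨h, ⟨key, hhr⟩, fun h' ⟨hh', hhr'⟩ => huniq h' ⟨?_, hhr'⟩⟩
    rw [← hρ, ← RingHom.comp_assoc, hh']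

end Groth.Agent.SHClosed93
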